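import Cfsg.Agent.OD.Pre
import Cfsg.Agent.H6.Top2
import Cfsg.Agent.H6.M24A.D0
set_option autoImplicit false
set_option maxRecDepth 100000
set_option Elab.async false
set_option linter.all false
namespace CfH6.M24A
open CfH6 MulAction
noncomputable def n0_0 : Net := mkNet (nat_lit 320) [(nat_lit 160, k0), (nat_lit 80, k1), (nat_lit 40, k2), (nat_lit 20, k3), (nat_lit 10, k4), (nat_lit 5, k5)] [(k6, nat_lit 1), (k7, nat_lit 1), (k8, nat_lit 1), (k9, nat_lit 1), (k10, nat_lit 1)]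
noncomputable def n0_1 : Net := mkNet (nat_lit 320) [(nat_lit 160, k11), (nat_lit 80, k12), (nat_lit 40, k13), (nat_lit 20, k14), (nat_lit 10, k15), (nat_lit 5, k16)] [(k17, nat_lit 1), (k18, nat_lit 1), (k19, nat_lit 1), (k20, nat_lit 1), (k21, nat_lit 1)]
noncomputable def n0_2 : Net := revNet n0_1
noncomputable def n1_1 : Net := mkNet (nat_lit 320) [(nat_lit 160, k22), (nat_lit 80, k23), (nat_lit 40, k24), (nat_lit 20, k25), (nat_lit 10, k26), (nat_lit 5, k27)] [(k28, nat_lit 1), (k29, nat_lit 1), (k30, nat_lit 1), (k31, nat_lit 1), (k32, nat_lit 1)]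
noncomputable def n1_2 : Net := mkNet (nat_lit 320) [(nat_lit 160, k33), (nat_lit 80, k34), (nat_lit 40, k35), (nat_lit 20, k36), (nat_lit 10, k37), (nat_lit 5, k38)] [(k39, nat_lit 1), (k40, nat_lit 1), (k41, nat_lit 1), (k42, nat_lit 1), (k43, nat_lit 1)]
noncomputable def n2_0 : Net := mkNet (nat_lit 40) [(nat_lit 20, (nat_lit 0xbc280b9350)), (nat_lit 10, (nat_lit 0xdd9e657150)), (nat_lit 5, (nat_lit 0x7f892bda46))] [((nat_lit 0x2900009024), nat_lit 1), ((nat_lit 0x1280a50948), nat_lit 1), ((nat_lit 0x2900529484), nat_lit 1), ((nat_lit 0x80840042), nat_lit 1), ((nat_lit 0x20), nat_lit 1)]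
noncomputable def n2_1 : Net := mkNet (nat_lit 40) [(nat_lit 20, (nat_lit 0x7aa007aa00)), (nat_lit 10, (nat_lit 0x4812004010)), (nat_lit 5, (nat_lit 0xe5210a9200))] [((nat_lit 0x28401094a4), nat_lit 1), ((nat_lit 0x4094a52840), nat_lit 1), ((nat_lit 0x20404294a0), nat_lit 1), ((nat_lit 0xa52800), nat_lit 1), ((nat_lit 0x109400), nat_lit 1)]
noncomputable def n3_0 : Net := mkNet (nat_lit 24) [(nat_lit 12, (nat_lit 0x61c61c)), (nat_lit 6, (nat_lit 0x38e820)), (nat_lit 3, (nat_lit 0x610da4))] [((nat_lit 0x249040), nat_lit 1), ((nat_lit 0x12490), nat_lit 1), ((nat_lit 0x9040), nat_lit 1)]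
noncomputable def n3_1 : Net := mkNet (nat_lit 24) [(nat_lit 12, (nat_lit 0x154184)), (nat_lit 6, (nat_lit 0x51420c)), (nat_lit 3, (nat_lit 0x496404))] [((nat_lit 0x41240), nat_lit 1), ((nat_lit 0x12090), nat_lit 1), ((nat_lit 0x1048), nat_lit 1)]
noncomputable def n3_2 : Net := mkNet (nat_lit 24) [(nat_lit 12, (nat_lit 0x40040)), (nat_lit 6, (nat_lit 0x9a0820)), (nat_lit 3, (nat_lit 0x912380))] [((nat_lit 0x41208), nat_lit 1), ((nat_lit 0x80480), nat_lit 1), ((nat_lit 0x40040), nat_lit 1)]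
noncomputable def n3_3 : Net := mkNet (nat_lit 24) [(nat_lit 12, (nat_lit 0x6d06d0)), (nat_lit 6, (nat_lit 0xee8410)), (nat_lit 3, (nat_lit 0xc26900))] [((nat_lit 0x49048), nat_lit 1), ((nat_lit 0x10410), nat_lit 1), ((nat_lit 0x8008), nat_lit 1)]
noncomputable def n4_0 : Net := mkNet (nat_lit 16) [(nat_lit 8, (nat_lit 0x3020)), (nat_lit 4, (nat_lit 0x2200)), (nat_lit 2, (nat_lit 0))] [((nat_lit 0x140), nat_lit 1)]
noncomputable def n4_1 : Net := mkNet (nat_lit 16) [(nat_lit 8, (nat_lit 0x1000)), (nat_lit 4, (nat_lit 0)), (nat_lit 2, (nat_lit 0xa00))] [((nat_lit 0x400), nat_lit 1)]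
noncomputable def n4_2 : Net := mkNet (nat_lit 16) [(nat_lit 8, (nat_lit 0x7060)), (nat_lit 4, (nat_lit 0x2200)), (nat_lit 2, (nat_lit 0xa0))] [((nat_lit 0x140), nat_lit 1)]
noncomputable def n5_0 : Net := mkNet (nat_lit 12) [(nat_lit 6, (nat_lit 0x820)), (nat_lit 3, (nat_lit 0x800))] [((nat_lit 0x240), nat_lit 1)]
noncomputable def n5_1 : Net := mkNet (nat_lit 12) [(nat_lit 6, (nat_lit 0x820)), (nat_lit 3, (nat_lit 0x800))] [((nat_lit 0x200), nat_lit 1)]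
noncomputable def n6_0 : Net := mkNet (nat_lit 8) [(nat_lit 4, (nat_lit 0)), (nat_lit 2, (nat_lit 0))] [((nat_lit 0x40), nat_lit 1)]
noncomputable def nets0 : List Net := [n0_0, n0_1, n0_2]
noncomputable def nets1 : List Net := [n0_1, n1_1, n1_2]
def ws1 : List (List ℕ) := [[1],
  [0, 1, 0, 2, 0],
  [0, 2, 0, 1, 0, 2, 0, 1, 0, 1, 0, 2, 0, 2, 0, 1, 0, 2, 0, 1, 0]]
noncomputable def nets2 : List Net := [n2_0, n2_1]
def ws2 : List (List ℕ) := [[1, 0, 2, 1, 0, 2, 0],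
  [2]]
noncomputable def nets3 : List Net := [n3_0, n3_1, n3_2, n3_3]
def ws3 : List (List ℕ) := [[0, 0, 1, 0, 0, 0, 1, 0, 0, 0, 1, 0],
  [1, 0, 0, 1, 0, 0, 0, 1],
  [0, 1, 1, 0, 0],
  [0, 1, 0, 1]]
noncomputable def nets4 : List Net := [n4_0, n4_1, n4_2]
def ws4 : List (List ℕ) := [[2, 1, 2, 2, 3],
  [1, 2, 3, 2, 0],
  [1, 0, 2, 1]]
noncomputable def nets5 : List Net := [n5_0, n5_1]
def ws5 : List (List ℕ) := [[1, 0, 2, 2],
  [1, 1, 2, 1]]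
noncomputable def nets6 : List Net := [n6_0]
def ws6 : List (List ℕ) := [[1, 0, 0, 0]]
def sig : List (List ℕ) := [[0],
  [1],
  [2]]
def eqs0 : List (List ℕ × List ℕ) := [([0, 0], []),
  ([1, 2], []),
  ([1, 1], [2]),
  ([0, 1, 0, 1, 0, 1, 0, 1, 0, 1, 0, 1, 0, 1, 0, 1, 0, 1, 0, 1, 0, 1, 0], [2, 0, 2, 0, 2, 0, 2, 0, 2, 0, 2, 0, 2, 0, 2, 0, 2, 0, 2, 0, 2, 0, 2]),
  ([0, 2, 0, 1, 0, 2, 0, 1, 0, 2, 0, 1, 0, 2, 0, 1, 0, 2, 0, 1, 0, 2, 0, 1], [2, 0, 1, 0, 2, 0, 1, 0, 2, 0, 1, 0, 2, 0, 1, 0, 2, 0, 1, 0, 2, 0, 1, 0]),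
  ([0, 2, 0, 2, 0, 1, 0, 1, 0, 2, 0, 2, 0, 1, 0, 1, 0, 2, 0, 2], [2, 0, 2, 0, 1, 0, 1, 0, 2, 0, 2, 0, 1, 0, 1, 0, 2, 0, 2, 0]),
  ([0, 1, 0, 1, 0, 2, 0, 1, 0, 2, 0, 1, 0, 2, 0, 1, 0, 1, 0, 2, 0, 1, 0, 2, 0, 1, 0, 2], [1, 0, 2, 0, 1, 0, 2, 0, 1, 0, 2, 0, 2, 0, 1, 0, 2, 0, 1, 0, 2, 0, 1, 0, 2, 0, 2, 0]),
  ([0, 1, 0, 1, 0, 2, 0, 1, 0, 1, 0, 2, 0, 1, 0, 1, 0, 2], [1, 0, 1, 0, 2, 0, 1, 0, 1, 0, 2, 0, 1, 0, 1, 0, 2, 0])]
def eqs : List (List ℕ × List ℕ) := eqs0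
def lU : List (ℕ × ℕ) := [(0, 11), (12, 3), (16, 5), (24, 13), (40, 244)]
noncomputable def U : ℕ := ivls lU
def l1 : List (ℕ × ℕ) := [(1, 10), (12, 3), (16, 5), (24, 13), (40, 200)]
noncomputable def S1 : ℕ := ivls l1
def w1 : List ℕ := [0]
def l2 : List (ℕ × ℕ) := [(240, 44)]
noncomputable def S2 : ℕ := ivls l2
def w2 : List ℕ := [0, 2, 0, 1, 0, 1, 0]
noncomputable def J : List (List ℕ × ℕ × ℕ) := [(w1, 1, S1), (w2, 241, S2)]
def lBig : List (ℕ × ℕ) := [(1, 10), (12, 3), (16, 5), (24, 13), (40, 200)]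
noncomputable def J2 : List (List ℕ × ℕ × ℕ) := [([0, 0, 3, 0, 2, 0], 1, S1)]
noncomputable def J1 : List (List ℕ × ℕ × ℕ) := [([0], 1, S1)]
def ex : List (List ℕ) := [[0, 1]]
def bs' : List ℕ := [0, 1, 2, 3, 4, 5, 6]
end CfH6.M24A
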